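import Cfsg.Agent.H482.Car.TwoInv
import Cfsg.Agent.H607.Car.E6Def

/-!
# T8 of S3852: `InvCl` for `E₆(q)` and `²E₆(q)`, `q` odd
-/

set_option autoImplicit false

namespace Cfsg.Agent.H482.Car

open Cfsg.Lie Cfsg.Agent.H607.Car

/-- **T8**, `E₆(q)`. -/
theorem invCl_E6 {K : Type} [Field K] [Fintype K] (ho : Odd (Fintype.card K)) {t0 : ↥(chevE6.group K)}
    (h0 : orderOf t0 = 2) : InvCl ↥(chevE6.group K) t0 := ⟨h0, (twoInv_E6 ho).cl h0⟩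

/-- **T8**, `²E₆(q)`. -/
theorem invCl_twE6 {K : Type} [Field K] [Fintype K] {q : ℕ} (hqp : IsPrimePow q) (ho : Odd q)
    (hK : Fintype.card K = q ^ 2) {t0 : ↥(twistedE6 K q)} (h0 : orderOf t0 = 2) : InvCl ↥(twistedE6 K q) t0 :=
  ⟨h0, (twoInv_twE6 hqp ho hK).cl h0⟩

end Cfsg.Agent.H482.Car
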