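import Cfsg.Agent.H482.KKL.TwConj
import Cfsg.Agent.H557.LrFam

/-!
# `E₆(q)`, `²E₆(q)`, `q` odd, have at most two classes of involutions (S3852, T8)

* `TwoInv Y` : every involution of `Y` is conjugate to `a` or to `b`;
* `twoInv_twE6`, `twoInv_E6`;
* `TwoInv.cl` : the involutions which are not conjugate to a given one form one class.
-/

set_option autoImplicit false
set_option linter.unusedSectionVars false
set_option maxHeartbeats 400000

namespace Cfsg.Agent.H482.Car

open CoxeterSystem Cfsg.Agent.ChevalleyStructure.CoxeterGeom Cfsg.Agent.Tits.Roots Cfsg.Agent.Tits.Core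
  Cfsg.Agent.Tits.RootComb Cfsg.Agent.Tits.Exchange Cfsg.Agent.Nodes.Reps Cfsg.Agent.Nodes.BNOf
  Cfsg.Agent.Nodes.StabComb Cfsg.Agent.Nodes.Bruhat Cfsg.Agent.Nodes.OppDec Cfsg.Agent.Nodes.RGDLib
  Cfsg.Agent.UGT.U2.FOne
open Cfsg Cfsg.Lie Cfsg.Agent.ChevalleyStructure.CoxeterGeomTypes Cfsg.Agent.Nodes.RGDChev
open Cfsg.Agent.KFacts.RgdChevCoord (TT XX)
open Cfsg.Agent.H557.LrSgn Cfsg.Agent.H557.LrTor Cfsg.Agent.H557.LrOrb Cfsg.Agent.H557.LrIso
  Cfsg.Agent.H557.LrNF Cfsg.Agent.H557.LrData Cfsg.Agent.H557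
open Cfsg.Agent.H557.LrChev (csz csz_apply csz_eq_zero_iff sgnEl_zS exists_sgn)
open Cfsg.Agent.H974.Exc (sym_E6 sym_E7 sym_E8 J_E6 J_E6' J_E7 J_E8 fix_of_id map_of_graph s6)
open Cfsg.Agent.GenExc.Chev (zS)

/-- every involution is conjugate to `a` or to `b` -/
def TwoInv (Y : Type*) [Group Y] : Prop := ∃ a b : Y, ∀ t : Y, t * t = 1 → t = 1 ∨ IsConj a t ∨ IsConj b t

theorem TwoInv.cl {Y : Type*} [Group Y] (h : TwoInv Y) {t0 : Y} (h0 : orderOf t0 = 2) :
    ∀ s t : Y, orderOf s = 2 → orderOf t = 2 → ¬ IsConj s t0 → ¬ IsConj t t0 → IsConj s t := by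
  obtain ⟨a, b, hab⟩ := h
  have key : ∀ {t : Y}, orderOf t = 2 → IsConj a t ∨ IsConj b t := by
    intro t ht
    have h1 : t * t = 1 := by rw [← pow_two, ← ht, pow_orderOf_eq_one]
    refine (hab t h1).resolve_left ?_
    rintro rfl
    rw [orderOf_one] at ht
    omega
  intro s t hs ht hs0 ht0
  rcases key h0 with h1 | h1
  · have e1 := (key hs).resolve_left fun h2 => hs0 (h2.symm.trans h1)
    have e2 := (key ht).resolve_left fun h2 => ht0 (h2.symm.trans h1)
    exact e1.symm.trans e2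
  · have e1 := (key hs).resolve_right fun h2 => hs0 (h2.symm.trans h1)
    have e2 := (key ht).resolve_right fun h2 => ht0 (h2.symm.trans h1)
    exact e1.symm.trans e2

/-- **`²E₆(q)`** -/
theorem twoInv_twE6 {K : Type} [Field K] [Fintype K] {q : ℕ} (hqp : IsPrimePow q) (ho : Odd q)
    (hK : Fintype.card K = q ^ 2) : TwoInv ↥(twistedE6 K q) := by
  obtain ⟨p, hp⟩ := CharP.exists K
  have hprime : p.Prime := CharP.char_prime_of_ne_zero K (CharP.char_ne_zero_of_finite K p)
  have : Fact p.Prime := ⟨hprime⟩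
  obtain ⟨φ, hφ, hqq⟩ := ChevalleyStructure.TwE6Basic.exists_frob hqp hK
  have hF : Odd (Fintype.card K) := by
    rw [hK]
    exact ho.pow
  have hp2 : p ≠ 2 := by
    rintro rfl
    obtain ⟨n, -, hn⟩ := FiniteField.card K 2
    rw [hn] at hF
    exact absurd hF (Nat.not_odd_iff_even.2 (even_two.pow_of_ne_zero n.ne_zero))
  have hpo : Odd p := hprime.odd_of_ne_two hp2
  have hq2 : 2 ≤ q := hqp.two_le
  have hS := Cfsg.Agent.S1070.result hqp hK
  have hs : IsSimpleGroup ↥(Lie.twistedE6 K q) := hS.1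
  have hZ : Subgroup.center ↥(Lie.twistedE6 K q) = ⊥ := by
    rcases (inferInstance : (Subgroup.center ↥(Lie.twistedE6 K q)).Normal).eq_bot_or_eq_top with h1 | h1
    · exact h1
    · exfalso
      apply hS.2
      exact ⟨⟨fun a b => by
        have h2 : a ∈ Subgroup.center ↥(Lie.twistedE6 K q) := by rw [h1]; exact Subgroup.mem_top a
        exact (Subgroup.mem_center_iff.1 h2 b).symm⟩⟩
  exact ⟨_, _, fun t ht => H482.KKL.TwE.inv_cases hφ hqq p hpo hq2 hK hZ ht⟩

/-! ### `E₆(q)` -/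

set_option backward.isDefEq.respectTransparency false in
theorem bits_E6_one : bits 6 1 = csz (cartanOf chevE6 6) [1, 2] := bits_eq_csz (by decide +kernel)

theorem bits_E6_two : bits 6 2 = csz (cartanOf chevE6 6) [0, 3, 5] := bits_E6

section

variable {K : Type} [Field K] [Fintype K]

/-- the conclusion -/
def Con6 (t : ↥(chevE6.group K)) : Prop :=
  t = 1 ∨ IsConj (zS isType_E6 K [1, 2]) t ∨ IsConj (zS isType_E6 K [0, 3, 5]) t

theorem Con6.of_conj {t k : ↥(chevE6.group K)} (h : Con6 (k * t * k⁻¹)) : Con6 t := by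
  have hc : IsConj (k * t * k⁻¹) t := by
    rw [isConj_comm, isConj_iff]
    exact ⟨k, rfl⟩
  rcases h with h | h | h
  · left
    rwa [mul_inv_eq_one, mul_eq_left] at h
  · exact Or.inr (Or.inl (h.trans hc))
  · exact Or.inr (Or.inr (h.trans hc))

/-- the involutions of the torus -/
theorem torus_E6_cases (p : ℕ) [Fact p.Prime] [CharP K p] (hp2 : Odd p) {t : ↥(chevE6.group K)} (ht : t ∈ TT chevE6 K)
    (htt : t * t = 1) : Con6 t := by
  obtain ⟨cs, -⟩ : ∃ cs, cs = (CoxeterMatrix.E₆).toCoxeterSystem := ⟨_, rfl⟩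
  have hW : Finite (CoxeterMatrix.E₆).Group := finite_W isType_E6 cs
  have hZ : Subgroup.center ↥(chevE6.group K) = ⊥ := center_eq_bot (S1054.result _ (by simp))
  have R := rgd (K := K) isType_E6 cs p
  have hG1 := G1_eq_top (K := K) isType_E6 cs
  have h2K : (2 : K) ≠ 0 := (LrIso.odd_card (F := K) hp2).2
  obtain ⟨n, hn, hs⟩ := exists_sgn isType_E6 cs p h2K ht htt
  have hP : ∀ t : ↥(chevE6.group K), SgnEl cs isType_E6.isCartan (TT chevE6 K) (XX chevE6 6 K) (bits 6 n) t →
      Con6 t := by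
    refine orbit_all (l := 6) (rm := rmE6)
      (P := fun n => ∀ t : ↥(chevE6.group K), SgnEl cs isType_E6.isCartan (TT chevE6 K) (XX chevE6 6 K) (bits 6 n) t →
        Con6 t)
      (fun j n hP t ht => ?_) okL_E6 (fun m hm => ?_) hn
    · have h2 := ht.conj R (rp_simple cs R.nsys j)
      rw [bits_step cs isType_E6.isCartan okR_E6] at h2
      exact (hP _ h2).of_conj
    · have hc : ∀ m : ℕ, (7 : ℕ).testBit m = true → m = 0 ∨ m = 2 ∨ m = 1 := by
        intro m hm
        by_cases h : m < 3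
        · revert hm
          revert m
          decide +kernel
        · exfalso
          rw [Nat.testBit_lt_two_pow (lt_of_lt_of_le (by norm_num : (7 : ℕ) < 2 ^ 3)
            (Nat.pow_le_pow_right (by norm_num) (not_lt.1 h)))] at hm
          exact absurd hm (by decide)
      intro t ht
      rcases hc m hm with rfl | rfl | rfl
      · left
        refine SgnEl.unique hG1 hZ ht ⟨one_mem _, fun a _ _ u _ => by rw [one_mul, mul_one], fun a _ h2 => ?_⟩
        exact absurd (by rw [bits_zero]; rfl) h2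
      · right; right
        rw [bits_E6_two] at ht
        rw [SgnEl.unique hG1 hZ ht (sgnEl_zS isType_E6 K cs [0, 3, 5])]
      · right; left
        rw [bits_E6_one] at ht
        rw [SgnEl.unique hG1 hZ ht (sgnEl_zS isType_E6 K cs [1, 2])]
  exact hP t hs

/-- **The classes of involutions of `E₆(q)`.** -/
theorem E6_cases (ho : Odd (Fintype.card K)) {t : ↥(chevE6.group K)} (htt : t * t = 1) : Con6 t := by
  by_cases h1 : t = 1
  · exact Or.inl h1
  obtain ⟨p, hpp, hpc, hp2⟩ := LrFam.exists_char K ho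
  have : Fact p.Prime := ⟨hpp⟩
  have hp2' : p ≠ 2 := by
    rintro rfl
    exact (by decide : ¬ Odd 2) hp2
  have hS : IsSimpleGroup ↥(Lie.chevE6.group K) ∧ ¬ IsMulCommutative ↥(Lie.chevE6.group K) := S1054.result _ (by simp)
  have hs := hS.1
  have hZ := center_eq_bot hS
  obtain ⟨cs, hcs⟩ : ∃ cs, cs = (CoxeterMatrix.E₆).toCoxeterSystem := ⟨_, rfl⟩
  have hW : Finite (CoxeterMatrix.E₆).Group := finite_W isType_E6 cs
  have R := rgd (K := K) isType_E6 cs p
  have hG := G1_eq_top (K := K) isType_E6 cs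
  have hGG := KFacts.RgdRigid.GG_eq_top (T := TT chevE6 K) hG
  obtain ⟨k, φ, σ, J, g, N⟩ := exists_nf_inner hp2' R hG hZ htt h1
  have hT : k⁻¹ * t * k ∈ TT chevE6 K := by
    rcases sym_E6 ⟨σ, σ, N.σσ, N.σσ⟩ (fun i j => FFour.sigma_matrix N.φ_simple i j) with hσ | hσ
    · have hσ' : ∀ i, σ i = i := hσ
      have hJ := J_E6 N hσ'
      exact mem_T_of R hGG fun c hc => fix_of_id N.nx hσ' hJ hc
    · exfalso
      have hσ' : σ = s6 := funext hσ
      have hJ := J_E6' N hσ'
      have hA : ∀ i j, cartanOf chevE6 6 (σ i) (σ j) = cartanOf chevE6 6 i j := by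
        rw [hσ']
        decide +kernel
      have hmap : ∀ c, IsRoot cs isType_E6.isCartan c → cj (k⁻¹ * t * k) (XX chevE6 6 K c) = XX chevE6 6 K (c ∘ σ) :=
        fun c hc => map_of_graph N.nx hA hJ hc
      have hroot : ∀ c, IsRoot cs isType_E6.isCartan c → IsRoot cs isType_E6.isCartan (c ∘ σ) := by
        rintro _ ⟨w, i, rfl⟩
        rw [← H974.Exc.rep_comp N.φ_simple N.σσ hA]
        refine ⟨φ w, σ i, ?_⟩
        congr 1
        funext j
        by_cases hj : j = σ i
        · rw [hj, Function.comp_apply, N.σσ, sr_self, sr_self]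
        · rw [Function.comp_apply, sr_ne hj, sr_ne]
          intro h2
          exact hj (by rw [← h2, N.σσ])
      have h6 := graph_trivial R hGG N.σσ hroot hmap 0
      rw [hσ'] at h6
      exact absurd h6 (by decide)
  have h4 : k⁻¹ * t * k = k⁻¹ * t * k⁻¹⁻¹ := by rw [inv_inv]
  have h5 : Con6 (k⁻¹ * t * k) := torus_E6_cases p hp2 hT (by
    have : k⁻¹ * t * k * (k⁻¹ * t * k) = k⁻¹ * (t * t) * k := by group
    rw [this, htt, mul_one, inv_mul_cancel])
  rw [h4] at h5
  exact h5.of_conj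

theorem twoInv_E6 (ho : Odd (Fintype.card K)) : TwoInv ↥(chevE6.group K) := ⟨_, _, fun _ ht => E6_cases ho ht⟩

end

end Cfsg.Agent.H482.Car
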